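import Mathlib.AlgebraicGeometry.Morphisms.Separated
import Mathlib.AlgebraicGeometry.Limits
import Mathlib.Topology.KrullDimension
import Mathlib.AlgebraicGeometry.Morphisms.Immersion
import Mathlib.Topology.Spectral.Prespectral
import Mathlib.RingTheory.Localization.AtPrime.Basic
import Mathlib.RingTheory.KrullDimension.Zero

/-! Zero-dimensional schemes and Hausdorff schemes. -/

set_option autoImplicit false
set_option backward.isDefEq.respectTransparency false

universe u

open CategoryTheory Limits AlgebraicGeometry TopologicalSpace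

namespace Groth.Agent.ZeroDimScheme

variable {X : Scheme.{u}}

theorem eq_of_specializes (h : topologicalKrullDim X ≤ 0) {x y : X} (hxy : x ⤳ y) : x = y := by
  let c : X → IrreducibleCloseds X := fun z => ⟨closure {z}, isIrreducible_singleton.closure, isClosed_closure⟩
  have hle : c y ≤ c x := by
    show closure {y} ⊆ closure {x}
    exact specializes_iff_closure_subset.1 hxy
  have hmax := Order.krullDim_nonpos_iff_forall_isMax.1 (show Order.krullDim (IrreducibleCloseds X) ≤ 0 from h) (c y) hle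
  exact Specializes.antisymm hxy (specializes_iff_closure_subset.2 hmax) |>.eq

theorem t2Space_primeSpectrum {R : Type u} [CommRing R] (h : ∀ p q : PrimeSpectrum R, p ≤ q → p = q) :
    T2Space (PrimeSpectrum R) := by
  constructor
  intro p q hpq
  obtain ⟨a, hap, haq⟩ : ∃ a, a ∈ p.asIdeal ∧ a ∉ q.asIdeal := SetLike.not_le_iff_exists.1 fun hle => hpq (h p q hle)
  have hnil : IsNilpotent (algebraMap R (Localization.AtPrime p.asIdeal) a) := by
    rw [nilpotent_iff_mem_prime]
    intro J hJ
    have hle : J.comap (algebraMap R (Localization.AtPrime p.asIdeal)) ≤ p.asIdeal := by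
      intro z hz
      by_contra hzp
      exact hJ.ne_top (Ideal.eq_top_of_isUnit_mem _ hz (IsLocalization.map_units _ (⟨z, hzp⟩ : p.asIdeal.primeCompl)))
    have := congrArg PrimeSpectrum.asIdeal (h ⟨_, hJ.comap _⟩ p hle)
    exact Ideal.mem_comap.1 (this.ge hap)
  obtain ⟨n, hn⟩ := hnil
  rw [← map_pow, IsLocalization.map_eq_zero_iff p.asIdeal.primeCompl] at hn
  obtain ⟨⟨f, hfp⟩, hf⟩ := hn
  refine ⟨PrimeSpectrum.basicOpen f, PrimeSpectrum.basicOpen a, (PrimeSpectrum.basicOpen f).2,
    (PrimeSpectrum.basicOpen a).2, hfp, haq, Set.disjoint_left.2 fun r hrf hra => ?_⟩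
  have : f * a ^ n ∈ r.asIdeal := by rw [show f * a ^ n = 0 from hf]; exact zero_mem _
  rcases r.isPrime.mem_or_mem this with h' | h'
  exacts [hrf h', hra (r.isPrime.mem_of_pow_mem n h')]

theorem t2Space_affine (h : topologicalKrullDim X ≤ 0) {U : X.Opens} (hU : IsAffineOpen U) :
    T2Space (U : Set X) := by
  haveI := t2Space_primeSpectrum (R := Γ(X, U)) fun p q hpq => hU.fromSpec.isOpenEmbedding.injective
    (eq_of_specializes h (((PrimeSpectrum.le_iff_specializes p q).1 hpq).map hU.fromSpec.continuous))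
  haveI : T2Space ↥(Spec Γ(X, U)) := inferInstanceAs (T2Space (PrimeSpectrum Γ(X, U)))
  have hr : ∀ x : (U : Set X), ∃ p, hU.fromSpec p = x.1 := fun x => ⟨_, hU.fromSpec_primeIdealOf x⟩
  choose g hg using hr
  have hind : Topology.IsInducing (hU.fromSpec ∘ g) := by
    rw [show (hU.fromSpec : _ → X) ∘ g = Subtype.val from funext hg]
    exact Topology.IsInducing.subtypeVal
  refine T2Space.of_injective_continuous (f := g) (fun a b e => Subtype.ext (by rw [← hg a, e, hg b])) ?_
  rw [hU.fromSpec.isOpenEmbedding.isInducing.continuous_iff]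
  exact hind.continuous

theorem isClosed_affine (h : topologicalKrullDim X ≤ 0) [QuasiSeparatedSpace X] {U : X.Opens} (hU : IsAffineOpen U) :
    IsClosed (U : Set X) := by
  rw [← isOpen_compl_iff, isOpen_iff_forall_mem_open]
  intro x hx
  obtain ⟨V, hV, hxV, -⟩ := exists_isAffineOpen_mem_and_subset (U := (⊤ : X.Opens)) (x := x) trivial
  haveI := t2Space_affine h hV
  have hc : IsCompact ((U : Set X) ∩ V) := QuasiSeparatedSpace.inter_isCompact _ _ U.2 hU.isCompact V.2 hV.isCompact
  have hc' : IsClosed ((Subtype.val : ↥(V : Set X) → X) ⁻¹' (U : Set X)) := by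
    refine IsCompact.isClosed ?_
    rw [Topology.IsInducing.subtypeVal.isCompact_iff]
    convert hc using 1
    rw [Set.image_preimage_eq_inter_range, Subtype.range_coe]
  exact ⟨Subtype.val '' ((Subtype.val : ↥(V : Set X) → X) ⁻¹' (U : Set X))ᶜ, by rintro _ ⟨z, hz, rfl⟩; exact hz,
    V.2.isOpenMap_subtype_val _ hc'.isOpen_compl, ⟨⟨x, hxV⟩, hx, rfl⟩⟩

theorem t2Space (h : topologicalKrullDim X ≤ 0) [QuasiSeparatedSpace X] : T2Space X := by
  constructor
  intro x y hxy
  obtain ⟨U, hU, hxU, -⟩ := exists_isAffineOpen_mem_and_subset (U := (⊤ : X.Opens)) (x := x) trivial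
  by_cases hyU : y ∈ U
  · haveI := t2Space_affine h hU
    obtain ⟨A, B, hA, hB, hxA, hyB, hAB⟩ := t2_separation (X := (U : Set X)) (x := ⟨x, hxU⟩) (y := ⟨y, hyU⟩) (fun e => hxy (congrArg Subtype.val e))
    exact ⟨Subtype.val '' A, Subtype.val '' B, U.2.isOpenMap_subtype_val _ hA, U.2.isOpenMap_subtype_val _ hB,
      ⟨_, hxA, rfl⟩, ⟨_, hyB, rfl⟩, (Set.disjoint_image_iff Subtype.val_injective).2 hAB⟩
  · exact ⟨U, (U : Set X)ᶜ, U.2, (isClosed_affine h hU).isOpen_compl, hxU, hyU, disjoint_compl_right⟩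

theorem isSeparated_of_t2 [T2Space X] : X.IsSeparated := by
  constructor
  let f := terminal.from X
  refine ⟨IsClosedImmersion.of_isPreimmersion _ ?_⟩
  rw [← isOpen_compl_iff, isOpen_iff_forall_mem_open]
  intro z hz
  by_cases e : pullback.fst f f z = pullback.snd f f z
  · obtain ⟨U, hU, hxU, -⟩ := exists_isAffineOpen_mem_and_subset (U := (⊤ : X.Opens)) (x := pullback.fst f f z) trivial
    haveI : IsAffine (U : Scheme.{u}) := hU
    let W : (pullback f f).Opens := pullback.fst f f ⁻¹ᵁ U ⊓ pullback.snd f f ⁻¹ᵁ U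
    haveI : IsSeparated (U.ι ≫ f) := by rw [terminal.comp_from]; infer_instance
    have hcl : IsClosed ((Subtype.val : ↥(W : Set ↥(pullback f f)) → ↥(pullback f f)) ⁻¹' Set.range (pullback.diagonal f)) := by
      let pU := pullback.map (U.ι ≫ f) (U.ι ≫ f) f f U.ι U.ι (𝟙 _) (by simp) (by simp)
      have hW : Set.range pU = (W : Set _) := by
        rw [Scheme.Pullback.range_map]; simp [W]
      let φ := pU.isOpenEmbedding.isEmbedding.toHomeomorph
      have hd : IsClosed (Set.range (pullback.diagonal (U.ι ≫ f))) := (pullback.diagonal (U.ι ≫ f)).isClosedEmbedding.isClosed_range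
      have key : pU ⁻¹' Set.range (pullback.diagonal f) = Set.range (pullback.diagonal (U.ι ≫ f)) := by
        ext q
        constructor
        · rintro ⟨x, hx⟩
          have hxU : x ∈ U := by
            have : pullback.fst f f (pU q) ∈ U := (show pU q ∈ (W : Set _) from hW ▸ ⟨q, rfl⟩).1
            rw [← hx, ← Scheme.Hom.comp_apply, pullback.diagonal_fst] at this
            exact this
          refine ⟨⟨x, hxU⟩, pU.isOpenEmbedding.injective ?_⟩
          rw [← hx, ← Scheme.Hom.comp_apply]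
          have e2 : pullback.diagonal (U.ι ≫ f) ≫ pU = U.ι ≫ pullback.diagonal f := by
            apply pullback.hom_ext <;> simp [pU, pullback.map, reassoc_of% pullback.diagonal_fst, reassoc_of% pullback.diagonal_snd]
          rw [e2]; rfl
        · rintro ⟨x, rfl⟩
          have e2 : pullback.diagonal (U.ι ≫ f) ≫ pU = U.ι ≫ pullback.diagonal f := by
            apply pullback.hom_ext <;> simp [pU, pullback.map, reassoc_of% pullback.diagonal_fst, reassoc_of% pullback.diagonal_snd]
          exact ⟨U.ι x, by rw [← Scheme.Hom.comp_apply, ← e2]; rfl⟩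
      have hw' : ∀ w : ↥(W : Set ↥(pullback f f)), w.1 ∈ Set.range pU := fun w => by rw [hW]; exact w.2
      let ψ : ↥(W : Set ↥(pullback f f)) → ↥(pullback (U.ι ≫ f) (U.ι ≫ f)) := fun w => φ.symm ⟨w.1, hw' w⟩
      have hψ : Continuous ψ := φ.symm.continuous.comp (Continuous.subtype_mk continuous_subtype_val hw')
      have hψ' : ∀ w, pU (ψ w) = w.1 := fun w => congrArg Subtype.val (φ.apply_symm_apply ⟨w.1, hw' w⟩)
      convert hd.preimage hψ using 1
      ext w
      rw [← key]
      show w.1 ∈ Set.range (pullback.diagonal f) ↔ pU (ψ w) ∈ Set.range (pullback.diagonal f)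
      rw [hψ']
    exact ⟨Subtype.val '' ((Subtype.val : ↥(W : Set ↥(pullback f f)) → ↥(pullback f f)) ⁻¹' Set.range (pullback.diagonal f))ᶜ,
      by rintro _ ⟨w, hw, rfl⟩; exact hw, W.2.isOpenMap_subtype_val _ hcl.isOpen_compl,
      ⟨⟨z, ⟨hxU, show pullback.snd f f z ∈ U from e ▸ hxU⟩⟩, hz, rfl⟩⟩
  · obtain ⟨A, B, hA, hB, hxA, hyB, hAB⟩ := t2_separation e
    refine ⟨pullback.fst f f ⁻¹' A ∩ pullback.snd f f ⁻¹' B, ?_,
      (hA.preimage (pullback.fst f f).continuous).inter (hB.preimage (pullback.snd f f).continuous), hxA, hyB⟩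
    rintro _ ⟨h1, h2⟩ ⟨x, rfl⟩
    rw [Set.mem_preimage, ← Scheme.Hom.comp_apply, pullback.diagonal_fst] at h1
    rw [Set.mem_preimage, ← Scheme.Hom.comp_apply, pullback.diagonal_snd] at h2
    exact Set.disjoint_left.1 hAB h1 h2

theorem isAffineOpen_of_isCompact (h : topologicalKrullDim X ≤ 0) [QuasiSeparatedSpace X] (U : X.Opens)
    (hU : IsCompact (U : Set X)) : IsAffineOpen U := by
  have hstep : ∀ V₁ V₂ : X.Opens, IsAffineOpen V₁ → IsAffineOpen V₂ → IsAffineOpen (V₁ ⊔ V₂) := by
    intro V₁ V₂ h₁ h₂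
    let W : X.Opens := V₁ ⊓ ⟨(V₂ : Set X)ᶜ, (isClosed_affine h h₂).isOpen_compl⟩
    have hW : IsAffineOpen W := by
      haveI : IsAffine (V₁ : Scheme.{u}) := h₁
      haveI : IsClosedImmersion (X.homOfLE (inf_le_left : W ≤ V₁)) := by
        refine IsClosedImmersion.of_isPreimmersion _ ?_
        have : Set.range (X.homOfLE (inf_le_left : W ≤ V₁)) = V₁.ι ⁻¹' (V₂ : Set X)ᶜ := by
          ext p
          constructor
          · rintro ⟨q, rfl⟩
            show V₁.ι (X.homOfLE _ q) ∉ V₂
            rw [← Scheme.Hom.comp_apply, X.homOfLE_ι]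
            exact q.2.2
          · intro hp
            exact ⟨⟨p.1, p.2, hp⟩, Subtype.ext (congr($(X.homOfLE_ι (inf_le_left : W ≤ V₁)) ⟨p.1, p.2, hp⟩))⟩
        rw [this]
        exact (V₂.2.isClosed_compl).preimage V₁.ι.continuous
      exact isAffine_of_isAffineHom (X.homOfLE (inf_le_left : W ≤ V₁))
    have e : V₁ ⊔ V₂ = W ⊔ V₂ := by
      ext x
      show (x ∈ V₁ ∨ x ∈ V₂) ↔ ((x ∈ V₁ ∧ x ∉ V₂) ∨ x ∈ V₂)
      tauto
    rw [e, sup_eq_iSup]
    refine IsAffineOpen.iSup_of_disjoint (fun b => by cases b <;> assumption) ?_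
    intro a b hab
    have hd : Disjoint W V₂ := by
      rw [disjoint_iff_inf_le]
      exact fun x hx => absurd hx.2 hx.1.2
    cases a <;> cases b <;> first | exact absurd rfl hab | exact hd | exact hd.symm
  have hex : ∀ x : (U : Set X), ∃ V : X.Opens, IsAffineOpen V ∧ x.1 ∈ V ∧ V ≤ U := fun x =>
    exists_isAffineOpen_mem_and_subset (U := U) x.2
  choose V hV hxV hVU using hex
  obtain ⟨t, ht⟩ := hU.elim_finite_subcover (fun x => (V x : Set X)) (fun x => (V x).2)
    fun x hx => Set.mem_iUnion.2 ⟨⟨x, hx⟩, hxV _⟩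
  have e : U = t.sup V := le_antisymm (fun x hx => by
    obtain ⟨y, hy, hxy⟩ := Set.mem_iUnion₂.1 (ht hx)
    exact (Finset.le_sup hy : V y ≤ t.sup V) hxy) (Finset.sup_le fun x _ => hVU x)
  rw [e]
  exact Finset.sup_induction (isAffineOpen_bot X) (fun V₁ h₁ V₂ h₂ => hstep V₁ V₂ h₁ h₂) fun x _ => hV x

end Groth.Agent.ZeroDimScheme
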